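import Groth.Agent.GeomLoc.Smooth
import Groth.Agent.FlatMor.GenericPts
import Groth.Agent.RegLoc.Basic
import Groth.Agent.FieldSep.MacLane

/-!
# Smoothness at points with separable residue field, and at generic points

* `mem_smoothLocus_iff_isRegularLocalRing`;
* `isGeomReducedAt_of_isGeomRegularAt`;
* `mem_smoothLocus_of_generic`.
-/

set_option autoImplicit false
set_option linter.style.haveILetI false

universe u

open CategoryTheory Limits AlgebraicGeometry TensorProduct
open Groth.Agent.FBase

namespace Groth.Agent.GeomLoc

variable {k : Type u} [Field k] {X : Scheme.{u}} [X.Over (Spec (CommRingCat.of k))]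

/-- At a point with geometrically reduced residue field, smooth means regular. -/
theorem mem_smoothLocus_iff_isRegularLocalRing
    [LocallyOfFinitePresentation (X ↘ Spec (CommRingCat.of k))] (x : X)
    (hres : letI := Curv2.resAlgebra k X x
      Algebra.IsGeometricallyReduced k (X.residueField x)) :
    x ∈ (X ↘ Spec (CommRingCat.of k)).smoothLocus ↔ IsRegularLocalRing (X.presheaf.stalk x) := by
  letI := Curv2.resAlgebra k X x
  obtain ⟨A, _, _, j, p, e, hjo, rfl, hj, he⟩ := exists_chart k X x
  haveI := finitePresentation_of_chart j hj
  haveI := hres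
  let ψ : p.asIdeal.ResidueField →+* X.residueField (j p) :=
    (IsLocalRing.ResidueField.mapEquiv e).symm.toRingHom
  let ψ' : p.asIdeal.ResidueField →ₐ[k] X.residueField (j p) :=
    { ψ with
      commutes' := fun r => by
        show (IsLocalRing.ResidueField.mapEquiv e).symm _ = _
        refine (RingEquiv.symm_apply_eq _).2 ?_
        show _ = IsLocalRing.residue _ (e (Curv2.stalkMap k X (j p) r))
        rw [he]
        rfl }
  haveI : Algebra.IsGeometricallyReduced k p.asIdeal.ResidueField :=
    .of_injective ψ' ψ'.injective
  rw [mem_smoothLocus_iff_chart j hj p, S9442.result k A p.asIdeal]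
  exact ⟨fun h => isRegularLocalRing_congr _ _ e.symm h, fun h => isRegularLocalRing_congr _ _ e h⟩

/-- Geometrically regular points are geometrically reduced. -/
theorem isGeomReducedAt_of_isGeomRegularAt (x : X) (h : Curv2.IsGeomRegularAt k X x) :
    Curv2.IsGeomReducedAt k X x := by
  refine isGeomReducedAt_of_pi x fun k' _ _ _ _ x' hx' => ?_
  haveI := h k' (fg_of_finiteDimensional k') x' hx'
  haveI : IsDomain ((Curv2.bc k X k').presheaf.stalk x') := RegLoc.isDomain _
  infer_instance

/-- A reduced generic point which is geometrically reduced is a smooth point. -/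
theorem mem_smoothLocus_of_generic [IsReduced X]
    [LocallyOfFinitePresentation (X ↘ Spec (CommRingCat.of k))] (η : X)
    (hη : closure {η} ∈ irreducibleComponents (X : Type u)) (h : Curv2.IsGeomReducedAt k X η) :
    η ∈ (X ↘ Spec (CommRingCat.of k)).smoothLocus := by
  obtain ⟨A, _, _, j, p, e, hjo, rfl, hj, he⟩ := exists_chart k X η
  haveI := finitePresentation_of_chart j hj
  have : IsReduced (Spec (CommRingCat.of A)) := isReduced_of_isOpenImmersion j
  haveI : _root_.IsReduced A := (affine_isReduced_iff (CommRingCat.of A)).mp this
  have hmin : p.asIdeal ∈ minimalPrimes A := by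
    refine ⟨⟨p.isPrime, bot_le⟩, fun q hq hqp => ?_⟩
    haveI := hq.1
    let q' : PrimeSpectrum A := ⟨q, inferInstance⟩
    have hs : j q' ⤳ j p :=
      (j.isOpenEmbedding.isInducing.specializes_iff).2 ((PrimeSpectrum.le_iff_specializes q' p).1 hqp)
    have := j.isOpenEmbedding.injective
      (Specializes.antisymm hs (((FlatMor.GenericPts.closure_mem_irreducibleComponents_iff _).1 hη) _ hs)).eq
    exact (congrArg PrimeSpectrum.asIdeal this).symm.le
  haveI : Ring.KrullDimLE 0 (Localization.AtPrime p.asIdeal) :=
    Ring.krullDimLE_zero_iff.2 fun Q hQ => by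
      haveI := hQ
      have h1 : Q.comap (algebraMap A _) ≤ p.asIdeal := by
        refine le_trans (Ideal.comap_mono (IsLocalRing.le_maximalIdeal hQ.ne_top)) ?_
        exact (IsLocalization.AtPrime.under_maximalIdeal (Localization.AtPrime p.asIdeal) p.asIdeal).le
      have h2 : Q.comap (algebraMap A _) = p.asIdeal :=
        le_antisymm h1 (hmin.2 ⟨inferInstance, bot_le⟩ h1)
      have h3 : Q = IsLocalRing.maximalIdeal (Localization.AtPrime p.asIdeal) := by
        refine (IsLocalization.map_under p.asIdeal.primeCompl _ Q).symm.trans ?_
        rw [show Q.under A = p.asIdeal from h2, Localization.AtPrime.map_eq_maximalIdeal]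
      rw [h3]
      infer_instance
  letI : Field (Localization.AtPrime p.asIdeal) :=
    (Ring.KrullDimLE.isField_of_isReduced).toField
  haveI := (isGeomReducedAt_iff_chart j hj p).1 h
  rw [mem_smoothLocus_iff_chart j hj p]
  exact (FieldSep.MacLane.formallySmooth_iff k (Localization.AtPrime p.asIdeal)).2 inferInstance

/-- Locally of finite type over a field is locally of finite presentation. -/
theorem locallyOfFinitePresentation [LocallyOfFiniteType (X ↘ Spec (CommRingCat.of k))] :
    LocallyOfFinitePresentation (X ↘ Spec (CommRingCat.of k)) :=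
  LocallyOfFinitePresentation.iff_locallyOfFiniteType.mpr inferInstance

end Groth.Agent.GeomLoc
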