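import Groth.Agent.FBase.Point
import Groth.Agent.GeomFieldLib.Main
import Mathlib

/-!
# Primes of `A ⊗ K` over a prime of `A`, and the ring `A_p ⊗ K`

* `forall_over_of_all`, `forall_over_iff`: properties of the local rings of `A ⊗ K` over `p` versus
  those of `A_p ⊗ K`;
* `reduced_tensor_of_pi`: reducedness over finite purely inseparable extensions reaches a perfect field.
-/

set_option autoImplicit false

universe u

open TensorProduct
open Groth.Agent.FBase

namespace Groth.Agent.GeomLoc

variable {k : Type u} [Field k] {A : Type u} [CommRing A] [Algebra k A] (p : Ideal A) [p.IsPrime]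
  (K : Type u) [Field K] [Algebra k K]

/-- The local rings at primes over `p` are local rings of `A_p ⊗ K`. -/
theorem exists_prime_tensor (P : Ideal (A ⊗[k] K)) [P.IsPrime]
    (hP : P.comap (algebraMap A (A ⊗[k] K)) = p) :
    ∃ (Q : Ideal (Localization.AtPrime p ⊗[k] K)) (_ : Q.IsPrime),
      Nonempty (Localization.AtPrime P ≃+* Localization.AtPrime Q) := by
  let Ap := Localization.AtPrime p
  let := (Point.mapK (k := k) (A := A) Ap K).toRingHom.toAlgebra
  have : IsScalarTower A (A ⊗[k] K) (Ap ⊗[k] K) := .of_algebraMap_eq fun a ↦ by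
    rw [RingHom.algebraMap_toAlgebra, AlgHom.toRingHom_eq_coe, RingHom.coe_coe,
      Point.mapK_algebraMap]
    rfl
  have := IsLocalization.tensorProduct_tensorProduct k K p.primeCompl Ap
    (by ext x; simp [RingHom.algebraMap_toAlgebra, Point.mapK])
  obtain ⟨Q, hQ, -, e⟩ := GeomFieldLib.exists_localization_equiv (T := Ap ⊗[k] K)
    (Algebra.algebraMapSubmonoid (A ⊗[k] K) p.primeCompl) P
    (by
      rw [Set.disjoint_left]
      rintro _ ⟨a, ha, rfl⟩ h
      exact ha (hP.le h))
  exact ⟨Q, hQ, e⟩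

/-- The local rings of `A_p ⊗ K` are localisations of the local rings at primes over `p`, for `K`
algebraic. -/
theorem exists_over_of_prime [Algebra.IsIntegral k K] (Q : Ideal (Localization.AtPrime p ⊗[k] K))
    [Q.IsPrime] :
    ∃ (P : Ideal (A ⊗[k] K)) (_ : P.IsPrime), P.comap (algebraMap A (A ⊗[k] K)) = p ∧
      ∃ (Q' : Ideal (Localization.AtPrime P)) (_ : Q'.IsPrime),
        Nonempty (Localization.AtPrime Q' ≃+* Localization.AtPrime Q) := by
  let Ap := Localization.AtPrime p
  let := (Point.mapK (k := k) (A := A) Ap K).toRingHom.toAlgebra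
  have : IsScalarTower A (A ⊗[k] K) (Ap ⊗[k] K) := .of_algebraMap_eq fun a ↦ by
    rw [RingHom.algebraMap_toAlgebra, AlgHom.toRingHom_eq_coe, RingHom.coe_coe,
      Point.mapK_algebraMap]
    rfl
  have := IsLocalization.tensorProduct_tensorProduct k K p.primeCompl Ap
    (by ext x; simp [RingHom.algebraMap_toAlgebra, Point.mapK])
  obtain ⟨m, hm, hle⟩ := Ideal.exists_le_maximal Q (Ideal.IsPrime.ne_top inferInstance)
  have := hm.isPrime
  have hint : Algebra.IsIntegral Ap (Ap ⊗[k] K) := inferInstance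
  have hmax : (m.comap (algebraMap Ap (Ap ⊗[k] K))).IsMaximal :=
    Ideal.isMaximal_comap_of_isIntegral_of_isMaximal m
  have hm' : m.comap (algebraMap Ap (Ap ⊗[k] K)) = IsLocalRing.maximalIdeal Ap :=
    IsLocalRing.eq_maximalIdeal hmax
  let P := m.comap (algebraMap (A ⊗[k] K) (Ap ⊗[k] K))
  have hP : P.comap (algebraMap A (A ⊗[k] K)) = p := by
    rw [← IsLocalization.AtPrime.under_maximalIdeal Ap p, ← hm']
    ext a
    simp only [P, Ideal.mem_comap, RingHom.algebraMap_toAlgebra, AlgHom.toRingHom_eq_coe,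
      RingHom.coe_coe, Point.mapK_algebraMap]
  refine ⟨P, inferInstance, hP, ?_⟩
  obtain ⟨m', hm'p, hm'c, ⟨e⟩⟩ := GeomFieldLib.exists_localization_equiv (T := Ap ⊗[k] K)
    (Algebra.algebraMapSubmonoid (A ⊗[k] K) p.primeCompl) P
    (by
      rw [Set.disjoint_left]
      rintro _ ⟨a, ha, rfl⟩ h
      exact ha (hP.le h))
  obtain rfl : m' = m := by
    rw [← IsLocalization.map_under (Algebra.algebraMapSubmonoid (A ⊗[k] K) p.primeCompl)
      (Ap ⊗[k] K) m', ← IsLocalization.map_under
      (Algebra.algebraMapSubmonoid (A ⊗[k] K) p.primeCompl) (Ap ⊗[k] K) m]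
    exact congrArg _ hm'c
  obtain ⟨Q₁, hQ₁, -, ⟨e'⟩⟩ := GeomFieldLib.exists_localization_equiv
    (T := Localization.AtPrime m') m'.primeCompl Q
    (Set.disjoint_left.2 fun x hx hQ => hx (hle hQ))
  refine ⟨Q₁.comap e.toRingHom, inferInstance, ⟨?_⟩⟩
  refine (IsLocalization.ringEquivOfRingEquiv (M := (Q₁.comap e.toRingHom).primeCompl)
    (T := Q₁.primeCompl) _ _ e ?_).trans e'.symm
  ext x
  simp only [Submonoid.mem_map]
  refine ⟨?_, fun hx => ⟨e.symm x, ?_, e.apply_symm_apply x⟩⟩
  · rintro ⟨y, hy, rfl⟩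
    exact hy
  · show ¬ e (e.symm x) ∈ Q₁
    rw [e.apply_symm_apply]
    exact hx

/-- A property holding at all local rings of `A_p ⊗ K` holds at the primes over `p`. -/
theorem forall_over_of_all (Pr : ∀ (R : Type u) [CommRing R], Prop)
    (he : ∀ (R S : Type u) [CommRing R] [CommRing S], (R ≃+* S) → Pr R → Pr S)
    (h : ∀ (Q : Ideal (Localization.AtPrime p ⊗[k] K)) [Q.IsPrime], Pr (Localization.AtPrime Q))
    (P : Ideal (A ⊗[k] K)) [P.IsPrime] (hP : P.comap (algebraMap A (A ⊗[k] K)) = p) :
    Pr (Localization.AtPrime P) := by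
  obtain ⟨Q, hQ, ⟨e⟩⟩ := exists_prime_tensor p K P hP
  exact he _ _ e.symm (h Q)

/-- For algebraic `K`, the local rings over `p` control all local rings of `A_p ⊗ K`. -/
theorem forall_over_iff [Algebra.IsIntegral k K] (Pr : ∀ (R : Type u) [CommRing R], Prop)
    (he : ∀ (R S : Type u) [CommRing R] [CommRing S], (R ≃+* S) → Pr R → Pr S)
    (hloc : ∀ (R : Type u) [CommRing R], Pr R → ∀ (q : Ideal R) [q.IsPrime],
      Pr (Localization.AtPrime q)) :
    (∀ (P : Ideal (A ⊗[k] K)) [P.IsPrime], P.comap (algebraMap A (A ⊗[k] K)) = p →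
        Pr (Localization.AtPrime P)) ↔
      ∀ (Q : Ideal (Localization.AtPrime p ⊗[k] K)) [Q.IsPrime], Pr (Localization.AtPrime Q) := by
  refine ⟨fun h Q _ => ?_, fun h P _ hP => forall_over_of_all p K Pr he h P hP⟩
  obtain ⟨P, hPp, hP, Q', hQ', ⟨e⟩⟩ := exists_over_of_prime p K Q
  exact he _ _ e (hloc _ (h P hP) Q')

/-- Reducedness over all finite purely inseparable extensions implies geometric reducedness. -/
theorem isGeometricallyReduced_of_pi (R : Type u) [CommRing R] [Algebra k R]
    (h : ∀ (L : Type u) [Field L] [Algebra k L] [FiniteDimensional k L] [IsPurelyInseparable k L],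
      IsReduced (R ⊗[k] L)) :
    Algebra.IsGeometricallyReduced k R := by
  classical
  let L := perfectClosure k (AlgebraicClosure k)
  have : IsReduced (R ⊗[k] L) := by
    refine ⟨fun z hz => ?_⟩
    obtain ⟨S, rfl⟩ := TensorProduct.exists_finset z
    let E := IntermediateField.adjoin k ((S.image Prod.snd : Finset L) : Set L)
    have hfin : FiniteDimensional k E := IntermediateField.finiteDimensional_adjoin
      fun x _ => Algebra.IsIntegral.isIntegral x
    have : IsPurelyInseparable k E := IsPurelyInseparable.tower_bot k E L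
    let φ := Algebra.TensorProduct.map (AlgHom.id k R) E.val
    have hφ : Function.Injective φ :=
      Module.Flat.lTensor_preserves_injective_linearMap (M := R) E.val.toLinearMap E.val.injective
    obtain ⟨w, hw⟩ : ∃ w : R ⊗[k] E, φ w = ∑ i ∈ S, i.1 ⊗ₜ[k] i.2 := by
      refine ⟨∑ i ∈ S.attach, i.1.1 ⊗ₜ[k] (⟨i.1.2, IntermediateField.subset_adjoin k _
        (Finset.mem_image_of_mem _ i.2)⟩ : E), ?_⟩
      rw [map_sum, ← Finset.sum_attach S]
      rfl
    have := h E
    rw [← hw] at hz ⊢
    rw [((IsNilpotent.map_iff hφ).mp hz).eq_zero, map_zero]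
  exact Point.isGeometricallyReduced_of_perfectField_of_isReduced (L := L)

end Groth.Agent.GeomLoc
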