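import Groth.Agent.GeomLoc.Chart
import Groth.Agent.GeomLoc.Ring
import Groth.Agent.GeomFieldLib.CMTensor
import Groth.Agent.GeomFieldLib.LocalDescent

/-!
# Cohen–Macaulay local rings of base changes
-/

set_option autoImplicit false
set_option linter.style.haveILetI false

universe u

open CategoryTheory Limits AlgebraicGeometry TensorProduct
open Groth.Agent.FBase

namespace Groth.Agent.GeomLoc

theorem isCohenMacaulayLocalRing_congr (R S : Type u) [CommRing R] [CommRing S] (e : R ≃+* S)
    (h : LocCoh.IsCohenMacaulayLocalRing R) : LocCoh.IsCohenMacaulayLocalRing S := by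
  haveI := e.isLocalRing
  haveI : IsNoetherianRing S := isNoetherianRing_of_ringEquiv _ e
  obtain ⟨h1, h2⟩ := EGA4Lib.depth_supportDim_ringEquiv e
  exact { supportDim_eq_depth := by
            rw [← h1, ← h2]
            exact h.supportDim_eq_depth }

/-- A local Cohen–Macaulay ring is a Cohen–Macaulay local ring. -/
theorem isCohenMacaulayLocalRing_of_ring (R : Type u) [CommRing R] [IsLocalRing R]
    (h : LocCoh.IsCohenMacaulayRing R) : LocCoh.IsCohenMacaulayLocalRing R := by
  haveI := h
  refine isCohenMacaulayLocalRing_congr _ _ (IsLocalization.atUnits R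
    (IsLocalRing.maximalIdeal R).primeCompl (S := Localization.AtPrime (IsLocalRing.maximalIdeal R))
    fun a ha => ?_).symm.toRingEquiv
    (LocCoh.IsCohenMacaulayRing.isCohenMacaulayLocalRing_localization (IsLocalRing.maximalIdeal R))
  exact IsLocalRing.notMem_maximalIdeal.1 ha

variable {k : Type u} [Field k] {A : Type u} [CommRing A] [Algebra k A]

/-- Cohen–Macaulayness at a prime and at a prime over it, when the fibres are Cohen–Macaulay. -/
theorem cm_over_iff [IsNoetherianRing A] (p : Ideal A) [p.IsPrime] (K : Type u) [Field K]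
    [Algebra k K] [IsNoetherianRing (A ⊗[k] K)]
    (hfib : ∀ (q : Ideal (Localization.AtPrime p)) [q.IsPrime],
      LocCoh.IsCohenMacaulayRing (q.ResidueField ⊗[k] K))
    (P : Ideal (A ⊗[k] K)) [P.IsPrime] (hP : P.comap (algebraMap A (A ⊗[k] K)) = p) :
    LocCoh.IsCohenMacaulayLocalRing (Localization.AtPrime p) ↔
      LocCoh.IsCohenMacaulayLocalRing (Localization.AtPrime P) := by
  let Ap := Localization.AtPrime p
  constructor
  · intro h
    let := (Point.mapK (k := k) (A := A) Ap K).toRingHom.toAlgebra
    have : IsScalarTower A (A ⊗[k] K) (Ap ⊗[k] K) :=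
      IsScalarTower.of_algebraMap_eq (R := A) (S := A ⊗[k] K) (A := Ap ⊗[k] K) fun a ↦ by
        show _ = Point.mapK Ap K (algebraMap A (A ⊗[k] K) a)
        rw [Point.mapK_algebraMap]
        rfl
    have := IsLocalization.tensorProduct_tensorProduct k K p.primeCompl Ap
      (by ext x; simp [RingHom.algebraMap_toAlgebra, Point.mapK])
    haveI : IsNoetherianRing (Ap ⊗[k] K) := IsLocalization.isNoetherianRing (R := A ⊗[k] K)
      (Algebra.algebraMapSubmonoid (A ⊗[k] K) p.primeCompl) (Ap ⊗[k] K) inferInstance
    haveI hring : LocCoh.IsCohenMacaulayRing (Ap ⊗[k] K) := by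
      refine GeomFieldLib.isCohenMacaulayRing_of_flat Ap (Ap ⊗[k] K)
        (haveI := h; Depth.isCohenMacaulayRing_of_isCohenMacaulayLocalRing) fun q _ => ?_
      obtain ⟨e⟩ := GeomFieldLib.nonempty_fiber_tensor k Ap K q
      exact GeomFieldLib.isCohenMacaulayRing_of_ringEquiv e.symm (hfib q)
    exact forall_over_of_all p K (fun R _ => LocCoh.IsCohenMacaulayLocalRing R)
      isCohenMacaulayLocalRing_congr
      (fun Q _ => LocCoh.IsCohenMacaulayRing.isCohenMacaulayLocalRing_localization Q) P hP
  · intro h
    subst hP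
    obtain ⟨_, h', _⟩ := GeomFieldLib.exists_faithfullyFlat_local (A := A) P
    haveI := h'
    haveI : IsNoetherianRing (Localization.AtPrime (P.comap (algebraMap A (A ⊗[k] K)))) :=
      IsLocalization.isNoetherianRing (P.comap (algebraMap A (A ⊗[k] K))).primeCompl _ inferInstance
    refine isCohenMacaulayLocalRing_of_ring _
      (GeomFieldLib.isCohenMacaulayRing_of_faithfullyFlat _ (Localization.AtPrime P)
        (haveI := h; Depth.isCohenMacaulayRing_of_isCohenMacaulayLocalRing))

end Groth.Agent.GeomLoc
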