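import Groth.Agent.GeomLoc.Chart
import Mathlib.AlgebraicGeometry.Morphisms.Flat
import Mathlib.AlgebraicGeometry.ResidueField
import Mathlib.AlgebraicGeometry.PullbackCarrier

/-!
# Points of iterated base changes

* `exists_common_point`: two points of `X_K`, `X_{k'}` over the same point come from one of `X_E`;
* `faithfullyFlat_stalk_bcMap`: the local rings of `X_E` are faithfully flat over those of `X_K`;
* `exists_point_tower`, `forall_point_tower`: points of `(X_{k'})_E` are points of `X_E`.
-/

set_option autoImplicit false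
set_option linter.style.haveILetI false

universe u

open CategoryTheory Limits AlgebraicGeometry TensorProduct
open Groth.Agent.FBase Groth.Agent.FBase.BC Groth.Agent.FBase.BC2

namespace Groth.Agent.GeomLoc

variable {k : Type u} [Field k] {X : Scheme.{u}} [X.Over (Spec (CommRingCat.of k))]
  {k' : Type u} [Field k'] [Algebra k k']

section Tower

variable {E : Type u} [Field E] [Algebra k E] [Algebra k' E] [IsScalarTower k k' E]

/-- `X_E → X_{k'}`. -/
noncomputable abbrev towerMap : Curv2.bc k X E ⟶ Curv2.bc k X k' :=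
  bcMap (X ↘ Spec (CommRingCat.of k)) (K := k') (L := E)

lemma towerMap_bcFst (z : Curv2.bc k X E) :
    Curv2.bcFst k X k' (towerMap (k' := k') z) = Curv2.bcFst k X E z := by
  rw [← Scheme.Hom.comp_apply]
  exact congr($(bcMap_fst (X ↘ Spec (CommRingCat.of k))) z)

/-- `(X_{k'})_E = X_E`. -/
noncomputable def towerIso :
    letI : (Curv2.bc k X k').Over (Spec (CommRingCat.of k')) := ⟨Curv2.bcSnd k X k'⟩
    Curv2.bc k X E ≅ Curv2.bc k' (Curv2.bc k X k') E :=
  (isPullback_bcMap (X ↘ Spec (CommRingCat.of k)) (K := k') (L := E)).isoPullback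

lemma towerIso_bcFst :
    letI : (Curv2.bc k X k').Over (Spec (CommRingCat.of k')) := ⟨Curv2.bcSnd k X k'⟩
    (towerIso (X := X) (k' := k') (E := E)).hom ≫ Curv2.bcFst k' (Curv2.bc k X k') E =
      towerMap (X := X) (k' := k') (E := E) :=
  (isPullback_bcMap (X ↘ Spec (CommRingCat.of k)) (K := k') (L := E)).isoPullback_hom_fst

/-- A stalkwise property at the points of `(X_{k'})_E` over `x'`, read on `X_E`. -/
theorem forall_point_tower (x' : Curv2.bc k X k') (Q : ∀ (R : Type u) [CommRing R], Prop)
    (hQ : ∀ (R S : Type u) [CommRing R] [CommRing S], (R ≃+* S) → Q R → Q S) :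
    letI : (Curv2.bc k X k').Over (Spec (CommRingCat.of k')) := ⟨Curv2.bcSnd k X k'⟩
    (∀ z : Curv2.bc k' (Curv2.bc k X k') E, Curv2.bcFst k' (Curv2.bc k X k') E z = x' →
        Q ((Curv2.bc k' (Curv2.bc k X k') E).presheaf.stalk z)) ↔
      ∀ z : Curv2.bc k X E, towerMap (k' := k') z = x' → Q ((Curv2.bc k X E).presheaf.stalk z) := by
  letI : (Curv2.bc k X k').Over (Spec (CommRingCat.of k')) := ⟨Curv2.bcSnd k X k'⟩
  have hfst : ∀ z, Curv2.bcFst k' (Curv2.bc k X k') E
      ((towerIso (X := X) (k' := k') (E := E)).hom z) = towerMap (k' := k') z := fun z => by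
    rw [← Scheme.Hom.comp_apply]
    exact congr($(towerIso_bcFst (X := X) (k' := k') (E := E)) z)
  constructor
  · intro h z hz
    exact hQ _ _ (PointScheme.openStalkEquiv (towerIso (X := X) (k' := k') (E := E)).hom z)
      (h _ ((hfst z).trans hz))
  · intro h w hw
    obtain ⟨z, rfl⟩ := (towerIso (X := X) (k' := k') (E := E)).hom.surjective w
    exact hQ _ _ (PointScheme.openStalkEquiv (towerIso (X := X) (k' := k') (E := E)).hom z).symm
      (h z ((hfst z).symm.trans hw))

end Tower

section Common

variable {K : Type u} [Field K] [Algebra k K]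

/-- Two points over the same point come from a point of a compositum. -/
theorem exists_common_point (y : Curv2.bc k X K) (x' : Curv2.bc k X k')
    (h : Curv2.bcFst k X K y = Curv2.bcFst k X k' x') :
    ∃ (E : Type u) (_ : Field E) (_ : Algebra k E) (_ : Algebra K E) (_ : Algebra k' E)
      (_ : IsScalarTower k K E) (_ : IsScalarTower k k' E) (z : Curv2.bc k X E),
      towerMap (k' := K) z = y ∧ towerMap (k' := k') z = x' ∧
      ((⊤ : IntermediateField k K).FG → (⊤ : IntermediateField k' E).FG) := by
  classical
  obtain ⟨w, hw1, hw2⟩ := Scheme.Pullback.exists_preimage_pullback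
    (f := Curv2.bcFst k X K) (g := Curv2.bcFst k X k') y x' h
  let W := pullback (Curv2.bcFst k X K) (Curv2.bcFst k X k')
  let L := W.residueField w
  let ι : Spec (CommRingCat.of L) ⟶ W := W.fromSpecResidueField w
  obtain ⟨φK, hφK⟩ := Spec.map_surjective
    (ι ≫ pullback.fst _ _ ≫ Curv2.bcSnd k X K : Spec (CommRingCat.of L) ⟶ _)
  obtain ⟨φk', hφk'⟩ := Spec.map_surjective
    (ι ≫ pullback.snd _ _ ≫ Curv2.bcSnd k X k' : Spec (CommRingCat.of L) ⟶ _)
  have hkk : φK.hom.comp (algebraMap k K) = φk'.hom.comp (algebraMap k k') := by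
    have h1 : Spec.map φK ≫ Spec.map (CommRingCat.ofHom (algebraMap k K)) =
        Spec.map φk' ≫ Spec.map (CommRingCat.ofHom (algebraMap k k')) := by
      rw [hφK, hφk']
      simp only [Category.assoc]
      rw [← pullback.condition (f := X ↘ Spec (CommRingCat.of k)),
        ← pullback.condition (f := X ↘ Spec (CommRingCat.of k)),
        ← Category.assoc (pullback.fst (Curv2.bcFst k X K) (Curv2.bcFst k X k')),
        pullback.condition (f := Curv2.bcFst k X K), Category.assoc]
    rw [← Spec.map_comp, ← Spec.map_comp] at h1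
    exact congr($(Spec.map_injective h1).hom)
  letI : Algebra k' L := φk'.hom.toAlgebra
  letI : Algebra k L := (φk'.hom.comp (algebraMap k k')).toAlgebra
  haveI : IsScalarTower k k' L := IsScalarTower.of_algebraMap_eq fun _ => rfl
  let S : Set L := Set.range φK.hom
  let E := IntermediateField.adjoin k' S
  let φE : K →+* E := φK.hom.codRestrict E
    fun a => IntermediateField.subset_adjoin k' S ⟨a, rfl⟩
  letI : Algebra K E := φE.toAlgebra
  haveI : IsScalarTower k K E := IsScalarTower.of_algebraMap_eq fun r => by
    apply Subtype.ext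
    exact (congr($hkk r)).symm
  let π : Spec (CommRingCat.of L) ⟶ Spec (CommRingCat.of E) :=
    Spec.map (CommRingCat.ofHom (algebraMap E L))
  have hπK : π ≫ specMap K E = Spec.map φK := by
    rw [← Spec.map_comp]
    rfl
  have hπk' : π ≫ specMap k' E = Spec.map φk' := by
    rw [← Spec.map_comp]
    rfl
  have hπk : π ≫ Spec.map (CommRingCat.ofHom (algebraMap k E)) =
      Spec.map φk' ≫ Spec.map (CommRingCat.ofHom (algebraMap k k')) := by
    rw [← Spec.map_comp, ← Spec.map_comp]
    rfl
  let ζ : Spec (CommRingCat.of L) ⟶ Curv2.bc k X E :=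
    pullback.lift (ι ≫ pullback.snd _ _ ≫ Curv2.bcFst k X k') π (by
      rw [hπk, hφk']
      simp only [Category.assoc]
      rw [pullback.condition (f := X ↘ Spec (CommRingCat.of k))])
  have hK : ζ ≫ towerMap (k' := K) = ι ≫ pullback.fst _ _ := by
    apply pullback.hom_ext
    · rw [Category.assoc, bcMap_fst, pullback.lift_fst, Category.assoc,
        pullback.condition (f := Curv2.bcFst k X K)]
    · rw [Category.assoc, bcMap_snd, pullback.lift_snd_assoc, hπK, hφK, Category.assoc]
  have hk' : ζ ≫ towerMap (k' := k') = ι ≫ pullback.snd _ _ := by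
    apply pullback.hom_ext
    · rw [Category.assoc, bcMap_fst, pullback.lift_fst, Category.assoc]
    · rw [Category.assoc, bcMap_snd, pullback.lift_snd_assoc, hπk', hφk', Category.assoc]
  let c : Spec (CommRingCat.of L) := IsLocalRing.closedPoint L
  have hc : ι c = w := Scheme.fromSpecResidueField_apply w c
  refine ⟨E, inferInstance, inferInstance, inferInstance, inferInstance, inferInstance,
    inferInstance, ζ c, ?_, ?_, fun hK' => ?_⟩
  · rw [← Scheme.Hom.comp_apply, hK, Scheme.Hom.comp_apply, hc]
    exact hw1
  · rw [← Scheme.Hom.comp_apply, hk', Scheme.Hom.comp_apply, hc]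
    exact hw2
  · obtain ⟨T, hT⟩ := hK'
    let ψ : K →ₐ[k] L :=
      { φK.hom with commutes' := fun r => congr($hkk r) }
    refine ⟨T.image fun a => φE a, ?_⟩
    apply IntermediateField.map_injective E.val
    rw [IntermediateField.adjoin_map, ← AlgHom.fieldRange_eq_map, IntermediateField.fieldRange_val,
      Finset.coe_image, ← Set.image_comp]
    refine le_antisymm (IntermediateField.adjoin.mono k' _ _ ?_) ?_
    · rintro _ ⟨a, _, rfl⟩
      exact ⟨a, rfl⟩
    · rw [IntermediateField.adjoin_le_iff]
      rintro _ ⟨a, rfl⟩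
      have h2 : (IntermediateField.adjoin k (T : Set K)).map ψ ≤
          (IntermediateField.adjoin k' (ψ '' (T : Set K))).restrictScalars k := by
        rw [IntermediateField.adjoin_map, IntermediateField.adjoin_le_iff]
        exact IntermediateField.subset_adjoin k' _
      exact h2 ⟨a, (hT.symm ▸ IntermediateField.mem_top :
        a ∈ IntermediateField.adjoin k (T : Set K)), rfl⟩

variable {E : Type u} [Field E] [Algebra k E] [Algebra K E] [IsScalarTower k K E]

/-- Local rings of `X_E` are faithfully flat over those of `X_K`. -/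
theorem faithfullyFlat_stalk_bcMap (z : Curv2.bc k X E) :
    letI := ((towerMap (k' := K)).stalkMap z).hom.toAlgebra
    Module.FaithfullyFlat ((Curv2.bc k X K).presheaf.stalk (towerMap (k' := K) z))
      ((Curv2.bc k X E).presheaf.stalk z) := by
  haveI : Flat (towerMap (X := X) (k' := K) (E := E)) :=
    MorphismProperty.of_isPullback (P := @Flat)
      (isPullback_bcMap (X ↘ Spec (CommRingCat.of k)) (K := K) (L := E)).flip inferInstance
  letI := ((towerMap (k' := K)).stalkMap z).hom.toAlgebra
  have : Module.Flat ((Curv2.bc k X K).presheaf.stalk (towerMap (k' := K) z))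
      ((Curv2.bc k X E).presheaf.stalk z) := Flat.stalkMap (towerMap (k' := K)) z
  have : IsLocalHom (algebraMap ((Curv2.bc k X K).presheaf.stalk (towerMap (k' := K) z))
      ((Curv2.bc k X E).presheaf.stalk z)) :=
    inferInstanceAs (IsLocalHom ((towerMap (k' := K)).stalkMap z).hom)
  exact Module.FaithfullyFlat.of_flat_of_isLocalHom

/-- Reducedness descends along `X_E → X_K`. -/
theorem isReduced_stalk_of_tower (z : Curv2.bc k X E)
    [_root_.IsReduced ((Curv2.bc k X E).presheaf.stalk z)] :
    _root_.IsReduced ((Curv2.bc k X K).presheaf.stalk (towerMap (k' := K) z)) := by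
  letI := ((towerMap (k' := K)).stalkMap z).hom.toAlgebra
  haveI := faithfullyFlat_stalk_bcMap (K := K) z
  exact isReduced_of_injective (algebraMap ((Curv2.bc k X K).presheaf.stalk (towerMap (k' := K) z))
    ((Curv2.bc k X E).presheaf.stalk z)) (FaithfulSMul.algebraMap_injective _ _)

end Common

end Groth.Agent.GeomLoc
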