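import Groth.Agent.GeomLoc.Chart
import Groth.Agent.GeomLoc.Ring
import Groth.Agent.GeomLoc.BC
import Groth.Agent.GeomFieldLib.Main
import Groth.Agent.RegLoc.Homological
import Groth.Agent.S9408

/-!
# Geometric regularity at a point

* `regular_over_iff`, `regular_points_of_pi`, `regular_points_of_ring`;
* `isRegularLocalRing_of_faithfullyFlat`: descent, no Noetherian hypothesis on the base;
* `isGeometricallyRegular_of_algHom`: geometric regularity descends along faithfully flat maps;
* `isRegularRing_tensor_atPrime_of_smoothAt`: smooth points are geometrically regular.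
-/

set_option autoImplicit false
set_option linter.style.haveILetI false

universe u

open CategoryTheory Limits AlgebraicGeometry TensorProduct
open Groth.Agent.FBase

namespace Groth.Agent.GeomLoc

theorem isRegularLocalRing_congr (R S : Type u) [CommRing R] [CommRing S] (e : R ≃+* S)
    (h : IsRegularLocalRing R) : IsRegularLocalRing S :=
  IsRegularLocalRing.of_ringEquiv (R := R) e

theorem isRegularLocalRing_loc (R : Type u) [CommRing R] (h : IsRegularLocalRing R) (q : Ideal R)
    [q.IsPrime] : IsRegularLocalRing (Localization.AtPrime q) :=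
  RegLoc.Homological.isRegularLocalRing_localization q

/-- Noetherianity descends along faithfully flat maps. -/
theorem isNoetherianRing_of_faithfullyFlat (R S : Type u) [CommRing R] [CommRing S] [Algebra R S]
    [Module.FaithfullyFlat R S] [IsNoetherianRing S] : IsNoetherianRing R := by
  have h : WellFoundedGT (Ideal R) := by
    refine StrictMono.wellFoundedGT (f := fun I : Ideal R => I.map (algebraMap R S)) ?_
    refine Monotone.strictMono_of_injective (fun _ _ h => Ideal.map_mono h) fun I J h => ?_
    rw [← Ideal.comap_map_eq_self_of_faithfullyFlat (B := S) I,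
      ← Ideal.comap_map_eq_self_of_faithfullyFlat (B := S) J]
    exact congrArg _ h
  exact isNoetherianRing_iff.2 (isNoetherian_iff'.2 h)

/-- Regularity descends along faithfully flat local maps. -/
theorem isRegularLocalRing_of_faithfullyFlat (R S : Type u) [CommRing R] [CommRing S] [Algebra R S]
    [IsLocalRing R] [IsRegularLocalRing S] [IsLocalHom (algebraMap R S)]
    [Module.FaithfullyFlat R S] : IsRegularLocalRing R := by
  haveI := isNoetherianRing_of_faithfullyFlat R S
  exact RegLoc.Homological.isRegularLocalRing_of_flat S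

variable {k : Type u} [Field k]

theorem isNoetherianRing_tensor_fg {R : Type u} [CommRing R] [Algebra k R] [IsNoetherianRing R]
    (K : Type u) [Field K] [Algebra k K] [Algebra.EssFiniteType k K] :
    IsNoetherianRing (R ⊗[k] K) ∧ IsNoetherianRing (K ⊗[k] R) := by
  haveI : IsNoetherianRing (R ⊗[k] K) := Algebra.EssFiniteType.isNoetherianRing R (R ⊗[k] K)
  exact ⟨inferInstance, isNoetherianRing_of_ringEquiv _ (Algebra.TensorProduct.comm k R K).toRingEquiv⟩

/-- Points over `p` in `A ⊗ L` versus the ring `L ⊗ A_p`. -/
theorem regular_over_iff {A : Type u} [CommRing A] [Algebra k A] (p : Ideal A) [p.IsPrime]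
    [IsNoetherianRing (Localization.AtPrime p)]
    (L : Type u) [Field L] [Algebra k L] [FiniteDimensional k L] :
    (∀ (P : Ideal (A ⊗[k] L)) [P.IsPrime], P.comap (algebraMap A (A ⊗[k] L)) = p →
        IsRegularLocalRing (Localization.AtPrime P)) ↔
      IsRegularRing (L ⊗[k] Localization.AtPrime p) := by
  obtain ⟨h1, h2⟩ := isNoetherianRing_tensor_fg (k := k) (R := Localization.AtPrime p) L
  refine (forall_over_iff p L (fun R _ => IsRegularLocalRing R) isRegularLocalRing_congr
    isRegularLocalRing_loc).trans ⟨fun h => ?_, fun h Q _ => ?_⟩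
  · haveI : IsRegularRing (Localization.AtPrime p ⊗[k] L) := isRegularRing_iff.mpr fun Q _ => h Q
    exact IsRegularRing.of_ringEquiv (Algebra.TensorProduct.comm k (Localization.AtPrime p) L).toRingEquiv
  · haveI : IsRegularRing (Localization.AtPrime p ⊗[k] L) :=
      IsRegularRing.of_ringEquiv (Algebra.TensorProduct.comm k L (Localization.AtPrime p)).toRingEquiv
    exact IsRegularRing.isRegularLocalRing_localization Q

theorem isRegularRing_tensor_congr {R S : Type u} [CommRing R] [CommRing S] [Algebra k R]
    [Algebra k S] (e : R ≃ₐ[k] S) (K : Type u) [CommRing K] [Algebra k K]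
    (h : IsRegularRing (K ⊗[k] R)) : IsRegularRing (K ⊗[k] S) :=
  IsRegularRing.of_ringEquiv (R := K ⊗[k] R)
    (Algebra.TensorProduct.congr (AlgEquiv.refl : K ≃ₐ[k] K) e).toRingEquiv

variable {X : Scheme.{u}} [X.Over (Spec (CommRingCat.of k))]

/-- Regularity over finite purely inseparable extensions gives it over finitely generated ones. -/
theorem regular_points_of_pi [IsLocallyNoetherian X] (x : X)
    (h : ∀ (k' : Type u) [Field k'] [Algebra k k'] [FiniteDimensional k k'] [IsPurelyInseparable k k']
      (x' : Curv2.bc k X k'), Curv2.bcFst k X k' x' = x →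
        IsRegularLocalRing ((Curv2.bc k X k').presheaf.stalk x'))
    (K : Type u) [Field K] [Algebra k K] [Algebra.EssFiniteType k K] :
    (∀ x' : Curv2.bc k X K, Curv2.bcFst k X K x' = x →
        IsRegularLocalRing ((Curv2.bc k X K).presheaf.stalk x')) ∧
      (letI := Curv2.stalkAlgebra k X x
       IsRegularRing (K ⊗[k] X.presheaf.stalk x)) := by
  letI := Curv2.stalkAlgebra k X x
  obtain ⟨A, _, _, j, p, e, hjo, rfl, hj, he⟩ := exists_chart k X x
  haveI := isNoetherianRing_of_chart j
  haveI : IsNoetherianRing (Localization.AtPrime p.asIdeal) :=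
    IsLocalization.isNoetherianRing p.asIdeal.primeCompl _ inferInstance
  have hpi : ∀ (L : Type u) [Field L] [Algebra k L], Module.Finite k L → IsPurelyInseparable k L →
      IsRegularRing (L ⊗[k] Localization.AtPrime p.asIdeal) := by
    intro L _ _ hf hp
    haveI := hf
    haveI := hp
    exact (regular_over_iff p.asIdeal L).1
      ((point_iff j hj p L (fun R _ => IsRegularLocalRing R) isRegularLocalRing_congr).1 (h L))
  haveI hK := GeomFieldLib.isRegularRing_tensor_of_pi_fg k (Localization.AtPrime p.asIdeal) hpi K
  haveI : IsRegularRing (Localization.AtPrime p.asIdeal ⊗[k] K) :=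
    IsRegularRing.of_ringEquiv (Algebra.TensorProduct.comm k K (Localization.AtPrime p.asIdeal)).toRingEquiv
  refine ⟨(point_iff j hj p K (fun R _ => IsRegularLocalRing R) isRegularLocalRing_congr).2
    fun P _ hP => ?_, isRegularRing_tensor_congr (AlgEquiv.ofRingEquiv (f := e) he).symm K hK⟩
  exact forall_over_of_all p.asIdeal K (fun R _ => IsRegularLocalRing R) isRegularLocalRing_congr
    (fun Q _ => IsRegularRing.isRegularLocalRing_localization Q) P hP

/-- Regularity of `K ⊗ O_{X,x}` gives regularity at the points of `X_K` over `x`. -/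
theorem regular_points_of_ring (x : X) (K : Type u) [Field K] [Algebra k K]
    (h : letI := Curv2.stalkAlgebra k X x
      IsRegularRing (K ⊗[k] X.presheaf.stalk x))
    (x' : Curv2.bc k X K) (hx' : Curv2.bcFst k X K x' = x) :
    IsRegularLocalRing ((Curv2.bc k X K).presheaf.stalk x') := by
  letI := Curv2.stalkAlgebra k X x
  obtain ⟨A, _, _, j, p, e, hjo, rfl, hj, he⟩ := exists_chart k X x
  haveI hK := isRegularRing_tensor_congr (AlgEquiv.ofRingEquiv (f := e) he) K h
  haveI : IsRegularRing (Localization.AtPrime p.asIdeal ⊗[k] K) :=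
    IsRegularRing.of_ringEquiv (Algebra.TensorProduct.comm k K (Localization.AtPrime p.asIdeal)).toRingEquiv
  exact (point_iff j hj p K (fun R _ => IsRegularLocalRing R) isRegularLocalRing_congr).2
    (fun P _ hP => forall_over_of_all p.asIdeal K (fun R _ => IsRegularLocalRing R)
      isRegularLocalRing_congr
      (fun Q _ => IsRegularRing.isRegularLocalRing_localization Q) P hP) x' hx'

theorem essFiniteType_of_fg {K : Type u} [Field K] [Algebra k K]
    (h : (⊤ : IntermediateField k K).FG) : Algebra.EssFiniteType k K := by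
  haveI : Algebra.EssFiniteType k (⊤ : IntermediateField k K) := IntermediateField.essFiniteType_iff.2 h
  exact Algebra.EssFiniteType.of_surjective (IntermediateField.topEquiv (F := k) (E := K)).toAlgHom
    (IntermediateField.topEquiv (F := k) (E := K)).surjective

theorem fg_of_finiteDimensional (K : Type u) [Field K] [Algebra k K] [FiniteDimensional k K] :
    (⊤ : IntermediateField k K).FG :=
  IntermediateField.fg_of_noetherian ⊤

/-- Geometric regularity at a point in terms of the local ring. -/
theorem isGeomRegularAt_iff [IsLocallyNoetherian X] (x : X) :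
    (Curv2.IsGeomRegularAt k X x ↔
      ∀ (k' : Type u) [Field k'] [Algebra k k'] [FiniteDimensional k k'] [IsPurelyInseparable k k']
        (x' : Curv2.bc k X k'), Curv2.bcFst k X k' x' = x →
          IsRegularLocalRing ((Curv2.bc k X k').presheaf.stalk x')) ∧
    ((∀ (k' : Type u) [Field k'] [Algebra k k'] [FiniteDimensional k k'] [IsPurelyInseparable k k']
        (x' : Curv2.bc k X k'), Curv2.bcFst k X k' x' = x →
          IsRegularLocalRing ((Curv2.bc k X k').presheaf.stalk x')) ↔
      (letI := Curv2.stalkAlgebra k X x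
       CAlg.IsGeometricallyRegular k (X.presheaf.stalk x))) := by
  refine ⟨⟨fun h k' _ _ _ _ x' hx' => h k' (fg_of_finiteDimensional k') x' hx', fun h k' _ _ hfg => ?_⟩,
    ⟨fun h k' _ _ hf => ?_, fun h k' _ _ hf _ x' hx' => regular_points_of_ring x k' (h k' hf) x' hx'⟩⟩
  · haveI := essFiniteType_of_fg hfg
    exact (regular_points_of_pi x h k').1
  · haveI := hf
    exact (regular_points_of_pi x h k').2

/-- Regularity descends along `X_E → X_K`. -/
theorem isRegularLocalRing_stalk_of_tower {K E : Type u} [Field K] [Field E] [Algebra k K]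
    [Algebra k E] [Algebra K E] [IsScalarTower k K E] (z : Curv2.bc k X E)
    (h : IsRegularLocalRing ((Curv2.bc k X E).presheaf.stalk z)) :
    IsRegularLocalRing ((Curv2.bc k X K).presheaf.stalk (towerMap (k' := K) z)) := by
  letI := ((towerMap (k' := K)).stalkMap z).hom.toAlgebra
  haveI := faithfullyFlat_stalk_bcMap (K := K) z
  haveI : IsLocalHom (algebraMap ((Curv2.bc k X K).presheaf.stalk (towerMap (k' := K) z))
      ((Curv2.bc k X E).presheaf.stalk z)) :=
    inferInstanceAs (IsLocalHom ((towerMap (k' := K)).stalkMap z).hom)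
  exact isRegularLocalRing_of_faithfullyFlat _ ((Curv2.bc k X E).presheaf.stalk z)

/-- Geometric regularity descends along faithfully flat maps of Noetherian algebras. -/
theorem isGeometricallyRegular_of_algHom {R S : Type u} [CommRing R] [CommRing S] [Algebra k R]
    [Algebra k S] [Algebra R S] [IsScalarTower k R S] [Module.FaithfullyFlat R S]
    [IsNoetherianRing R] (h : CAlg.IsGeometricallyRegular k S) :
    CAlg.IsGeometricallyRegular k R := by
  intro L _ _ hf
  haveI := hf
  haveI := h L hf
  obtain ⟨h1, h2⟩ := isNoetherianRing_tensor_fg (k := k) (R := R) L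
  let e : (R ⊗[k] L) ⊗[R] S ≃+* L ⊗[k] S :=
    ((Algebra.TensorProduct.comm R (R ⊗[k] L) S).toRingEquiv.trans
      (Algebra.TensorProduct.cancelBaseChange k R S S L).toRingEquiv).trans
      (Algebra.TensorProduct.comm k S L).toRingEquiv
  haveI : IsRegularRing ((R ⊗[k] L) ⊗[R] S) := IsRegularRing.of_ringEquiv e.symm
  haveI : Module.FaithfullyFlat (R ⊗[k] L) ((R ⊗[k] L) ⊗[R] S) := inferInstance
  haveI : IsRegularRing (R ⊗[k] L) :=
    GeomFieldLib.isRegularRing_of_faithfullyFlat (R ⊗[k] L) ((R ⊗[k] L) ⊗[R] S)
  exact IsRegularRing.of_ringEquiv (Algebra.TensorProduct.comm k R L).toRingEquiv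

/-- A smooth point is geometrically regular. -/
theorem isRegularRing_tensor_atPrime_of_smoothAt {A : Type u} [CommRing A] [Algebra k A]
    [Algebra.FinitePresentation k A] (p : Ideal A) [p.IsPrime] [Algebra.IsSmoothAt k p]
    (L : Type u) [Field L] [Algebra k L] [FiniteDimensional k L] :
    IsRegularRing (L ⊗[k] Localization.AtPrime p) := by
  obtain ⟨f, hfp, hf⟩ := Algebra.IsSmoothAt.exists_notMem_smooth k p
  let Af := Localization.Away f
  let Ap := Localization.AtPrime p
  have hk : CAlg.IsGeometricallyRegular k k := fun L' _ _ _ =>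
    IsRegularRing.of_ringEquiv (R := L') (Algebra.TensorProduct.rid k k L').toRingEquiv.symm
  haveI : IsRegularRing (L ⊗[k] Af) := (S9408.result k k Af hk) L inferInstance
  haveI : IsRegularRing (Af ⊗[k] L) :=
    IsRegularRing.of_ringEquiv (Algebra.TensorProduct.comm k L Af).toRingEquiv
  have hle : Submonoid.powers f ≤ p.primeCompl := Submonoid.powers_le.mpr hfp
  letI := IsLocalization.localizationAlgebraOfSubmonoidLe Af Ap _ _ hle
  haveI := IsLocalization.localization_isScalarTower_of_submonoid_le Af Ap _ _ hle
  haveI := IsLocalization.isLocalization_of_submonoid_le Af Ap _ _ hle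
  haveI : IsScalarTower k Af Ap := IsScalarTower.to₁₃₄ k A Af _
  let := (Point.mapK (k := k) (A := Af) Ap L).toRingHom.toAlgebra
  have : IsScalarTower Af (Af ⊗[k] L) (Ap ⊗[k] L) :=
    IsScalarTower.of_algebraMap_eq (R := Af) (S := Af ⊗[k] L) (A := Ap ⊗[k] L) fun a ↦ by
    rw [RingHom.algebraMap_toAlgebra, AlgHom.toRingHom_eq_coe, RingHom.coe_coe,
      Point.mapK_algebraMap]
    rfl
  have := IsLocalization.tensorProduct_tensorProduct k L (p.primeCompl.map (algebraMap A Af)) Ap
    (by ext x; simp [RingHom.algebraMap_toAlgebra, Point.mapK])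
  haveI : IsRegularRing (Ap ⊗[k] L) := GeomFieldLib.isRegularRing_of_isLocalization (R := Af ⊗[k] L)
    (Algebra.algebraMapSubmonoid (Af ⊗[k] L) (p.primeCompl.map (algebraMap A Af)))
  exact IsRegularRing.of_ringEquiv (Algebra.TensorProduct.comm k Ap L).toRingEquiv

end Groth.Agent.GeomLoc
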