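import Groth.Agent.GeomLoc.Chart
import Groth.Agent.GeomLoc.Ring
import Groth.Agent.GeomLoc.BC
import Groth.Agent.GeomFieldLib.TensorNormal

/-!
# Geometric normality at a point

* `normal_points_of_pi`: finite purely inseparable extensions suffice for normality at the points
  over `x` of all base changes, and for normality of `K ⊗ O_{X,x}`;
* `normal_points_of_ring`: conversely;
* `isDomain_isIC_stalk_of_tower`: normality descends along `X_E → X_K`.
-/

set_option autoImplicit false
set_option linter.style.haveILetI false

universe u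

open CategoryTheory Limits AlgebraicGeometry TensorProduct
open Groth.Agent.FBase

namespace Groth.Agent.GeomLoc

/-- Normality of a local ring. -/
abbrev IsNormalLocal (R : Type u) [CommRing R] : Prop := IsDomain R ∧ IsIntegrallyClosed R

theorem isNormalLocal_congr (R S : Type u) [CommRing R] [CommRing S] (e : R ≃+* S)
    (h : IsNormalLocal R) : IsNormalLocal S :=
  GeomFieldLib.isDomain_isIC_congr e.symm h

theorem isNormalLocal_localization (R : Type u) [CommRing R] (h : IsNormalLocal R) (q : Ideal R)
    [q.IsPrime] : IsNormalLocal (Localization.AtPrime q) := by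
  haveI := h.1
  haveI := h.2
  exact GeomFieldLib.isNormalRing_of_isDomain R q

variable {k : Type u} [Field k]

/-- Points over `p` in `A ⊗ L` versus the ring `L ⊗ A_p`. -/
theorem normal_over_iff {A : Type u} [CommRing A] [Algebra k A] (p : Ideal A) [p.IsPrime]
    (L : Type u) [Field L] [Algebra k L] [Algebra.IsIntegral k L] :
    (∀ (P : Ideal (A ⊗[k] L)) [P.IsPrime], P.comap (algebraMap A (A ⊗[k] L)) = p →
        IsNormalLocal (Localization.AtPrime P)) ↔
      EGA4.IsNormalRing (L ⊗[k] Localization.AtPrime p) :=
  (forall_over_iff p L (fun R _ => IsNormalLocal R) isNormalLocal_congr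
    isNormalLocal_localization).trans
    ⟨fun h => EGA4Lib.isNormalRing_of_ringEquiv
      (Algebra.TensorProduct.comm k (Localization.AtPrime p) L).toRingEquiv h,
     fun h => EGA4Lib.isNormalRing_of_ringEquiv
      (Algebra.TensorProduct.comm k L (Localization.AtPrime p)).toRingEquiv h⟩

/-- The stalk as a localisation, tensored with a field. -/
theorem isNormalRing_tensor_congr {R S : Type u} [CommRing R] [CommRing S] [Algebra k R]
    [Algebra k S] (e : R ≃ₐ[k] S) (K : Type u) [CommRing K] [Algebra k K]
    (h : EGA4.IsNormalRing (K ⊗[k] R)) : EGA4.IsNormalRing (K ⊗[k] S) :=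
  EGA4Lib.isNormalRing_of_ringEquiv
    (Algebra.TensorProduct.congr (AlgEquiv.refl : K ≃ₐ[k] K) e).toRingEquiv h

variable {X : Scheme.{u}} [X.Over (Spec (CommRingCat.of k))]

/-- Normality over finite purely inseparable extensions gives it over all extensions. -/
theorem normal_points_of_pi (x : X)
    (h : ∀ (k' : Type u) [Field k'] [Algebra k k'] [FiniteDimensional k k'] [IsPurelyInseparable k k']
      (x' : Curv2.bc k X k'), Curv2.bcFst k X k' x' = x →
        IsNormalLocal ((Curv2.bc k X k').presheaf.stalk x'))
    (K : Type u) [Field K] [Algebra k K] :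
    (∀ x' : Curv2.bc k X K, Curv2.bcFst k X K x' = x →
        IsNormalLocal ((Curv2.bc k X K).presheaf.stalk x')) ∧
      (letI := Curv2.stalkAlgebra k X x
       EGA4.IsNormalRing (K ⊗[k] X.presheaf.stalk x)) := by
  letI := Curv2.stalkAlgebra k X x
  obtain ⟨A, _, _, j, p, e, hjo, rfl, hj, he⟩ := exists_chart k X x
  have hpi : ∀ (L : Type u) [Field L] [Algebra k L], Module.Finite k L → IsPurelyInseparable k L →
      EGA4.IsNormalRing (L ⊗[k] Localization.AtPrime p.asIdeal) := by
    intro L _ _ hf hp
    haveI := hf
    haveI := hp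
    exact (normal_over_iff p.asIdeal L).1
      ((point_iff j hj p L (fun R _ => IsNormalLocal R) isNormalLocal_congr).1 (h L))
  have hK := GeomFieldLib.isNormalRing_tensor_of_pi k (Localization.AtPrime p.asIdeal) hpi K
  refine ⟨(point_iff j hj p K (fun R _ => IsNormalLocal R) isNormalLocal_congr).2 fun P _ hP => ?_,
    isNormalRing_tensor_congr (AlgEquiv.ofRingEquiv (f := e) he).symm K hK⟩
  exact forall_over_of_all p.asIdeal K (fun R _ => IsNormalLocal R) isNormalLocal_congr
    (fun Q _ => EGA4Lib.isNormalRing_of_ringEquiv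
      (Algebra.TensorProduct.comm k K (Localization.AtPrime p.asIdeal)).toRingEquiv hK Q) P hP

/-- Normality of `K ⊗ O_{X,x}` gives normality at the points of `X_K` over `x`. -/
theorem normal_points_of_ring (x : X) (K : Type u) [Field K] [Algebra k K]
    (h : letI := Curv2.stalkAlgebra k X x
      EGA4.IsNormalRing (K ⊗[k] X.presheaf.stalk x))
    (x' : Curv2.bc k X K) (hx' : Curv2.bcFst k X K x' = x) :
    IsNormalLocal ((Curv2.bc k X K).presheaf.stalk x') := by
  letI := Curv2.stalkAlgebra k X x
  obtain ⟨A, _, _, j, p, e, hjo, rfl, hj, he⟩ := exists_chart k X x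
  have hK := isNormalRing_tensor_congr (AlgEquiv.ofRingEquiv (f := e) he) K h
  exact (point_iff j hj p K (fun R _ => IsNormalLocal R) isNormalLocal_congr).2
    (fun P _ hP => forall_over_of_all p.asIdeal K (fun R _ => IsNormalLocal R) isNormalLocal_congr
      (fun Q _ => EGA4Lib.isNormalRing_of_ringEquiv
        (Algebra.TensorProduct.comm k K (Localization.AtPrime p.asIdeal)).toRingEquiv hK Q) P hP) x' hx'

/-- Normality descends along `X_E → X_K`. -/
theorem isDomain_isIC_stalk_of_tower {K E : Type u} [Field K] [Field E] [Algebra k K] [Algebra k E]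
    [Algebra K E] [IsScalarTower k K E] (z : Curv2.bc k X E)
    (h : IsNormalLocal ((Curv2.bc k X E).presheaf.stalk z)) :
    IsNormalLocal ((Curv2.bc k X K).presheaf.stalk (towerMap (k' := K) z)) := by
  letI := ((towerMap (k' := K)).stalkMap z).hom.toAlgebra
  haveI := faithfullyFlat_stalk_bcMap (K := K) z
  haveI := h.1
  haveI := h.2
  exact EGA4Lib.isDomain_isIntegrallyClosed_of_faithfullyFlat _
    ((Curv2.bc k X E).presheaf.stalk z)

end Groth.Agent.GeomLoc
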