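import Groth.Agent.GeomLoc.Chart
import Groth.Agent.GeomLoc.Ring

/-!
# Geometric reducedness at a point

* `isGeomReducedAt_iff_chart`, `isGeomReducedAt_iff_stalk`;
* `geometricallyReduced_iff_forall`: geometrically reduced iff so at every point;
* `isGeomReducedAt_of_pi`: finite purely inseparable extensions suffice.
-/

set_option autoImplicit false
set_option linter.style.haveILetI false

universe u

open CategoryTheory Limits AlgebraicGeometry TensorProduct
open Groth.Agent.FBase

namespace Groth.Agent.GeomLoc

variable {k : Type u} [Field k] {X : Scheme.{u}} [X.Over (Spec (CommRingCat.of k))]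
  {A : Type u} [CommRing A] [Algebra k A]

theorem isGeomReducedAt_iff_chart (j : Spec (CommRingCat.of A) ⟶ X) [IsOpenImmersion j]
    (hj : j ≫ (X ↘ Spec (CommRingCat.of k)) = Spec.map (CommRingCat.ofHom (algebraMap k A)))
    (p : PrimeSpectrum A) :
    Curv2.IsGeomReducedAt k X (j p) ↔
      Algebra.IsGeometricallyReduced k (Localization.AtPrime p.asIdeal) :=
  PointScheme.isGeomReducedAt_iff (X ↘ Spec (CommRingCat.of k)) j hj p

theorem isGeomReducedAt_iff_stalk (x : X) :
    letI := Curv2.stalkAlgebra k X x
    Curv2.IsGeomReducedAt k X x ↔ Algebra.IsGeometricallyReduced k (X.presheaf.stalk x) := by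
  letI := Curv2.stalkAlgebra k X x
  obtain ⟨A, _, _, j, p, e, hjo, rfl, hj, he⟩ := exists_chart k X x
  let e' : X.presheaf.stalk (j p) ≃ₐ[k] Localization.AtPrime p.asIdeal :=
    AlgEquiv.ofRingEquiv (f := e) he
  rw [isGeomReducedAt_iff_chart j hj p]
  exact ⟨fun _ => .of_injective e'.toAlgHom e'.injective,
    fun _ => .of_injective e'.symm.toAlgHom e'.symm.injective⟩

/-- Geometric reducedness is pointwise. -/
theorem geometricallyReduced_iff_forall :
    GeometricallyReduced (X ↘ Spec (CommRingCat.of k)) ↔ ∀ x : X, Curv2.IsGeomReducedAt k X x := by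
  refine ⟨fun _ x K _ _ x' _ => ?_, fun h => ⟨?_⟩⟩
  · have : IsReduced (Curv2.bc k X K) :=
      pullback_of_geometrically GeometricallyReduced.geometrically_isReduced _ _
    infer_instance
  · refine geometrically_iff_of_commRing_of_isClosedUnderIsomorphisms.mpr fun L _ _ => ?_
    have : ∀ x' : Curv2.bc k X L, _root_.IsReduced ((Curv2.bc k X L).presheaf.stalk x') :=
      fun x' => h _ L x' rfl
    exact isReduced_of_isReduced_stalk (Curv2.bc k X L)

/-- Reducedness over finite purely inseparable extensions suffices. -/
theorem isGeomReducedAt_of_pi (x : X)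
    (h : ∀ (k' : Type u) [Field k'] [Algebra k k'] [FiniteDimensional k k'] [IsPurelyInseparable k k']
      (x' : Curv2.bc k X k'), Curv2.bcFst k X k' x' = x →
        _root_.IsReduced ((Curv2.bc k X k').presheaf.stalk x')) :
    Curv2.IsGeomReducedAt k X x := by
  obtain ⟨A, _, _, j, p, e, hjo, rfl, hj, he⟩ := exists_chart k X x
  rw [isGeomReducedAt_iff_chart j hj p]
  refine isGeometricallyReduced_of_pi _ fun L _ _ _ _ => Point.isReduced_tensor_atPrime p.asIdeal ?_
  exact (point_iff j hj p L (fun R _ => _root_.IsReduced R)
    (fun R S _ _ f _ => isReduced_of_injective f.symm f.symm.injective)).1 (h L)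

/-- Geometric reducedness at a point over a perfect field. -/
theorem isGeomReducedAt_of_perfectField [PerfectField k] (x : X)
    [_root_.IsReduced (X.presheaf.stalk x)] : Curv2.IsGeomReducedAt k X x := by
  letI := Curv2.stalkAlgebra k X x
  rw [isGeomReducedAt_iff_stalk]
  exact TensorAlgClosed.isGeometricallyReduced_of_perfectField

/-- Geometric reducedness passes to generalisations. -/
theorem isGeomReducedAt_of_specializes (x x' : X) (hs : x' ⤳ x)
    (hx : Curv2.IsGeomReducedAt k X x) : Curv2.IsGeomReducedAt k X x' := by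
  obtain ⟨A, _, _, j, p, e, hjo, rfl, hj, he⟩ := exists_chart k X x
  obtain ⟨(q : PrimeSpectrum A), rfl⟩ :=
    (hs.mem_open j.isOpenEmbedding.isOpen_range ⟨p, rfl⟩ : x' ∈ Set.range j)
  rw [isGeomReducedAt_iff_chart j hj p] at hx
  rw [isGeomReducedAt_iff_chart j hj q]
  have hqp : q ⤳ p := j.isOpenEmbedding.isInducing.specializes_iff.1 hs
  have hle : p.asIdeal.primeCompl ≤ q.asIdeal.primeCompl := fun a ha h =>
    ha (((PrimeSpectrum.le_iff_specializes q p).2 hqp) h)
  letI := IsLocalization.localizationAlgebraOfSubmonoidLe (Localization.AtPrime p.asIdeal)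
    (Localization.AtPrime q.asIdeal) _ _ hle
  have := IsLocalization.localization_isScalarTower_of_submonoid_le
    (Localization.AtPrime p.asIdeal) (Localization.AtPrime q.asIdeal) _ _ hle
  have := IsLocalization.isLocalization_of_submonoid_le (Localization.AtPrime p.asIdeal)
    (Localization.AtPrime q.asIdeal) _ _ hle
  have : IsScalarTower k (Localization.AtPrime p.asIdeal) (Localization.AtPrime q.asIdeal) :=
    IsScalarTower.to₁₃₄ k A (Localization.AtPrime p.asIdeal) _
  exact Point.isGeometricallyReduced_of_isLocalization (A := Localization.AtPrime p.asIdeal)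
    (q.asIdeal.primeCompl.map (algebraMap A (Localization.AtPrime p.asIdeal))) _

/-- A reduced algebra is geometrically reduced if it is so at its minimal primes. -/
theorem isGeometricallyReduced_of_minimalPrimes (A : Type u) [CommRing A] [Algebra k A]
    [_root_.IsReduced A]
    (h : ∀ (q : Ideal A) [q.IsPrime], q ∈ minimalPrimes A →
      Algebra.IsGeometricallyReduced k (Localization.AtPrime q)) :
    Algebra.IsGeometricallyReduced k A := by
  classical
  rw [Algebra.isGeometricallyReduced_field_iff]
  refine ⟨fun z hz => ?_⟩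
  let b := Module.Basis.ofVectorSpace k (AlgebraicClosure k)
  apply (TensorProduct.equivFinsuppOfBasisLeft b).injective
  rw [map_zero]
  ext i
  rw [Finsupp.zero_apply]
  refine IsNilpotent.eq_zero (mem_nilradical.1 ?_)
  rw [nilradical, ← Ideal.sInf_minimalPrimes, Submodule.mem_sInf]
  intro q hq
  haveI := hq.1.1
  haveI := h q hq
  let ψ : A →ₐ[k] Localization.AtPrime q := IsScalarTower.toAlgHom k A _
  let Φ := Algebra.TensorProduct.map (AlgHom.id k (AlgebraicClosure k)) ψ
  have hnat : ∀ w, TensorProduct.equivFinsuppOfBasisLeft b (Φ w) i =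
      ψ (TensorProduct.equivFinsuppOfBasisLeft b w i) := by
    intro w
    induction w with
    | zero => simp
    | add u v hu hv => simp only [map_add, Finsupp.add_apply, hu, hv]
    | tmul c a =>
      rw [Algebra.TensorProduct.map_tmul, TensorProduct.equivFinsuppOfBasisLeft_apply_tmul_apply,
        TensorProduct.equivFinsuppOfBasisLeft_apply_tmul_apply, map_smul]
      rfl
  have h0 : Φ z = 0 := (hz.map Φ).eq_zero
  have h1 := hnat z
  rw [h0, map_zero, Finsupp.zero_apply] at h1
  obtain ⟨s, hs⟩ := (IsLocalization.map_eq_zero_iff (Ideal.primeCompl q) (Localization.AtPrime q) _).1 h1.symm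
  exact (hq.1.1.mem_or_mem (hs ▸ q.zero_mem)).resolve_left s.2

/-- A reduced scheme geometrically reduced at its generic points is geometrically reduced. -/
theorem geometricallyReduced_of_generic [IsReduced X]
    (h : ∀ Z ∈ irreducibleComponents (X : Type u), ∀ η : X, IsGenericPoint η Z →
      Curv2.IsGeomReducedAt k X η) :
    GeometricallyReduced (X ↘ Spec (CommRingCat.of k)) := by
  rw [geometricallyReduced_iff_forall]
  intro x
  obtain ⟨A, _, _, j, p, e, hjo, rfl, hj, he⟩ := exists_chart k X x
  have : IsReduced (Spec (CommRingCat.of A)) := isReduced_of_isOpenImmersion j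
  haveI : _root_.IsReduced A := (affine_isReduced_iff (CommRingCat.of A)).mp this
  haveI : Algebra.IsGeometricallyReduced k A := by
    refine isGeometricallyReduced_of_minimalPrimes A fun q _ hq => ?_
    let q' : PrimeSpectrum A := ⟨q, inferInstance⟩
    have hη : closure {j q'} ∈ irreducibleComponents (X : Type u) := by
      refine ⟨isIrreducible_singleton.closure, fun S hS hle => ?_⟩
      obtain ⟨g, hg⟩ := QuasiSober.sober hS.closure isClosed_closure
      have hgs : g ⤳ j q' :=
        hg.specializes (subset_closure (hle (subset_closure (Set.mem_singleton _))))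
      obtain ⟨(r : PrimeSpectrum A), rfl⟩ :=
        (hgs.mem_open j.isOpenEmbedding.isOpen_range ⟨q', rfl⟩ : g ∈ Set.range j)
      have hrq : r.asIdeal ≤ q := (PrimeSpectrum.le_iff_specializes r q').2
        (j.isOpenEmbedding.isInducing.specializes_iff.1 hgs)
      obtain rfl : r = q' := PrimeSpectrum.ext (le_antisymm hrq (hq.2 ⟨r.isPrime, bot_le⟩ hrq))
      rw [hg.def]
      exact subset_closure
    exact (isGeomReducedAt_iff_chart j hj q').1 (h _ hη (j q') rfl)
  rw [isGeomReducedAt_iff_chart j hj p]
  exact Point.isGeometricallyReduced_of_isLocalization (A := A) p.asIdeal.primeCompl _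

/-- An integral scheme is geometrically reduced iff its function field is. -/
theorem geometricallyReduced_iff_genericPoint [IsIntegral X] :
    GeometricallyReduced (X ↘ Spec (CommRingCat.of k)) ↔
      Curv2.IsGeomReducedAt k X (genericPoint X) := by
  refine ⟨fun h => geometricallyReduced_iff_forall.1 h _, fun h =>
    geometricallyReduced_of_generic fun Z hZ η hη => ?_⟩
  rw [irreducibleComponents_eq_singleton] at hZ
  obtain rfl := hZ
  rwa [(hη.eq (genericPoint_spec X) : η = genericPoint X)]

end Groth.Agent.GeomLoc
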