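import Groth.Agent.GeomLoc.Chart
import Groth.Agent.GeomLoc.Ring

/-!
# Points of products over a field

* `exists_prime_prod`: a point of `X ×_k Y` is a prime of `A ⊗ B`, with the same local ring;
* `exists_prime_atPrime`: primes of `A ⊗ B` over `p` have the local rings of `A_p ⊗ B`.
-/

set_option autoImplicit false
set_option linter.style.haveILetI false

universe u

open CategoryTheory Limits AlgebraicGeometry TensorProduct
open Groth.Agent.FBase

namespace Groth.Agent.GeomLoc

variable {k : Type u} [Field k] {X Y : Scheme.{u}} [X.Over (Spec (CommRingCat.of k))]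
  [Y.Over (Spec (CommRingCat.of k))]

/-- A point of `X ×_k Y` is a prime of `A ⊗ B`. -/
theorem exists_prime_prod
    (z : ↥(pullback (X ↘ Spec (CommRingCat.of k)) (Y ↘ Spec (CommRingCat.of k)))) :
    ∃ (A B : Type u) (_ : CommRing A) (_ : CommRing B) (_ : Algebra k A) (_ : Algebra k B)
      (j : Spec (CommRingCat.of A) ⟶ X) (i : Spec (CommRingCat.of B) ⟶ Y)
      (_ : IsOpenImmersion j) (_ : IsOpenImmersion i)
      (P : PrimeSpectrum (A ⊗[k] B)) (p : PrimeSpectrum A) (q : PrimeSpectrum B),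
      j ≫ (X ↘ Spec (CommRingCat.of k)) = Spec.map (CommRingCat.ofHom (algebraMap k A)) ∧
      i ≫ (Y ↘ Spec (CommRingCat.of k)) = Spec.map (CommRingCat.ofHom (algebraMap k B)) ∧
      j p = pullback.fst (X ↘ Spec (CommRingCat.of k)) (Y ↘ Spec (CommRingCat.of k)) z ∧
      i q = pullback.snd (X ↘ Spec (CommRingCat.of k)) (Y ↘ Spec (CommRingCat.of k)) z ∧
      P.asIdeal.comap (algebraMap A (A ⊗[k] B)) = p.asIdeal ∧
      P.asIdeal.comap (Algebra.TensorProduct.includeRight : B →ₐ[k] A ⊗[k] B).toRingHom = q.asIdeal ∧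
      Nonempty ((pullback (X ↘ Spec (CommRingCat.of k)) (Y ↘ Spec (CommRingCat.of k))).presheaf.stalk z ≃+*
        Localization.AtPrime P.asIdeal) := by
  let f := X ↘ Spec (CommRingCat.of k)
  let g := Y ↘ Spec (CommRingCat.of k)
  obtain ⟨A, _, _, j, p, -, hjo, hp, hj, -⟩ := exists_chart k X (pullback.fst f g z)
  obtain ⟨B, _, _, i, q, -, hio, hq, hi, -⟩ := exists_chart k Y (pullback.snd f g z)
  let c : Spec (CommRingCat.of (A ⊗[k] B)) ⟶ pullback f g :=
    (pullbackSpecIso k A B).inv ≫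
      pullback.map _ _ _ _ j i (𝟙 _) (by rw [hj, Category.comp_id]) (by rw [hi, Category.comp_id])
  haveI : IsOpenImmersion c := inferInstanceAs (IsOpenImmersion ((pullbackSpecIso k A B).inv ≫ _))
  obtain ⟨(P : PrimeSpectrum (A ⊗[k] B)), hP⟩ : z ∈ Set.range c := by
    simp only [c, Scheme.Hom.comp_base, TopCat.coe_comp]
    have hs : Function.Surjective (pullbackSpecIso k A B).inv :=
      (Scheme.Hom.homeomorph (pullbackSpecIso k A B).inv).surjective
    rw [Set.range_comp, hs.range_eq, Set.image_univ]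
    exact (Scheme.Pullback.range_map ..).ge ⟨⟨p, hp⟩, ⟨q, hq⟩⟩
  have hfst : c ≫ pullback.fst f g =
      Spec.map (CommRingCat.ofHom (algebraMap A (A ⊗[k] B))) ≫ j := by
    simp only [c, pullback.map, Category.assoc, pullback.lift_fst]
    rw [← Category.assoc]
    exact congrArg (· ≫ j) (pullbackSpecIso_inv_fst' k A B)
  have hsnd : c ≫ pullback.snd f g = Spec.map (CommRingCat.ofHom
      (Algebra.TensorProduct.includeRight : B →ₐ[k] A ⊗[k] B).toRingHom) ≫ i := by
    simp only [c, pullback.map, Category.assoc, pullback.lift_snd]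
    rw [← Category.assoc]
    exact congrArg (· ≫ i) (pullbackSpecIso_inv_snd k A B)
  refine ⟨A, B, inferInstance, inferInstance, inferInstance, inferInstance, j, i, hjo, hio, P, p, q,
    hj, hi, hp, hq, ?_, ?_, ⟨by rw [← hP]; exact PointScheme.chartStalkEquiv c P⟩⟩
  · have h1 : j p = j (PrimeSpectrum.comap (algebraMap A (A ⊗[k] B)) P) := by
      rw [hp, ← hP]
      exact (Scheme.Hom.comp_apply _ _ _).symm.trans (congr($hfst P))
    exact congrArg PrimeSpectrum.asIdeal (j.isOpenEmbedding.injective h1).symm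
  · have h1 : i q = i (PrimeSpectrum.comap
        (Algebra.TensorProduct.includeRight : B →ₐ[k] A ⊗[k] B).toRingHom P) := by
      rw [hq, ← hP]
      exact (Scheme.Hom.comp_apply _ _ _).symm.trans (congr($hsnd P))
    exact congrArg PrimeSpectrum.asIdeal (i.isOpenEmbedding.injective h1).symm

/-- Primes over `p` have the local rings of `A_p ⊗ B`. -/
theorem exists_prime_atPrime {A B : Type u} [CommRing A] [CommRing B] [Algebra k A] [Algebra k B]
    (p : Ideal A) [p.IsPrime] (P : Ideal (A ⊗[k] B)) [P.IsPrime]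
    (hP : P.comap (algebraMap A (A ⊗[k] B)) = p) :
    ∃ (Q : Ideal (Localization.AtPrime p ⊗[k] B)) (_ : Q.IsPrime),
      Nonempty (Localization.AtPrime P ≃+* Localization.AtPrime Q) := by
  let Ap := Localization.AtPrime p
  let φ : A ⊗[k] B →ₐ[k] Ap ⊗[k] B :=
    Algebra.TensorProduct.map (IsScalarTower.toAlgHom k A Ap) (AlgHom.id k B)
  have hφ : ∀ a : A, φ (algebraMap A (A ⊗[k] B) a) = algebraMap Ap (Ap ⊗[k] B) (algebraMap A Ap a) :=
    fun a => by simp [φ, Algebra.TensorProduct.algebraMap_apply]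
  let := φ.toRingHom.toAlgebra
  have : IsScalarTower A (A ⊗[k] B) (Ap ⊗[k] B) := .of_algebraMap_eq fun a ↦ by
    rw [RingHom.algebraMap_toAlgebra, AlgHom.toRingHom_eq_coe, RingHom.coe_coe, hφ]
    rfl
  have := IsLocalization.tensorProduct_tensorProduct k B p.primeCompl Ap
    (by ext x; simp [RingHom.algebraMap_toAlgebra, φ])
  obtain ⟨Q, hQ, -, e⟩ := GeomFieldLib.exists_localization_equiv (T := Ap ⊗[k] B)
    (Algebra.algebraMapSubmonoid (A ⊗[k] B) p.primeCompl) P
    (by
      rw [Set.disjoint_left]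
      rintro _ ⟨a, ha, rfl⟩ h
      exact ha (hP.le h))
  exact ⟨Q, hQ, e⟩

end Groth.Agent.GeomLoc
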