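import Groth.Prelude.Def_Curv2
import Groth.Agent.FBase.PointScheme
import Mathlib.AlgebraicGeometry.Noetherian
import Mathlib.AlgebraicGeometry.Morphisms.FinitePresentation

/-!
# Affine charts for schemes over a field, and points of base changes

* `exists_chart`: an affine chart around a point, with its local ring as a `k`-algebra;
* `point_iff`: a stalkwise property at the points of `X_K` over a chart point is a property of the
  primes of `A ⊗ K` over the prime.
-/

set_option autoImplicit false

universe u

open CategoryTheory Limits AlgebraicGeometry TensorProduct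
open Groth.Agent.FBase

namespace Groth.Agent.GeomLoc

variable {k : Type u} [Field k] {X : Scheme.{u}} [X.Over (Spec (CommRingCat.of k))]
  {A : Type u} [CommRing A] [Algebra k A]

/-- The comparison of the local ring at a chart point with the localisation commutes with `k`. -/
lemma chartStalkEquiv_stalkMap (j : Spec (CommRingCat.of A) ⟶ X) [IsOpenImmersion j]
    (hj : j ≫ (X ↘ Spec (CommRingCat.of k)) = Spec.map (CommRingCat.ofHom (algebraMap k A)))
    (p : PrimeSpectrum A) (r : k) :
    PointScheme.chartStalkEquiv j p (Curv2.stalkMap k X (j p) r) =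
      algebraMap k (Localization.AtPrime p.asIdeal) r := by
  have h1 : PointScheme.openStalkEquiv j p (Curv2.stalkMap k X (j p) r) =
      (Spec (CommRingCat.of A)).presheaf.germ ⊤ p trivial
        ((Scheme.ΓSpecIso (CommRingCat.of A)).inv (algebraMap k A r)) := by
    show j.stalkMap p ((X.presheaf.germ ⊤ (j p) trivial)
      (Coh.toGlobal (X ↘ Spec (CommRingCat.of k)) r)) = _
    refine (Scheme.Hom.germ_stalkMap_apply j ⊤ p trivial _).trans ?_
    refine congrArg ((Spec (CommRingCat.of A)).presheaf.germ ⊤ p trivial) ?_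
    show ((X ↘ Spec (CommRingCat.of k)).appTop ≫ j.appTop)
      ((Scheme.ΓSpecIso (CommRingCat.of k)).inv r) = _
    rw [← Scheme.Hom.comp_appTop, hj]
    exact (congr(($(Scheme.ΓSpecIso_inv_naturality (CommRingCat.ofHom (algebraMap k A)))) r)).symm
  show PointScheme.specStalkEquiv A p (PointScheme.openStalkEquiv j p _) = _
  rw [h1, IsScalarTower.algebraMap_apply k A (Localization.AtPrime p.asIdeal)]
  letI : Algebra A ((Spec (CommRingCat.of A)).presheaf.stalk p) := StructureSheaf.stalkAlgebra A p
  haveI : IsLocalization.AtPrime ((Spec (CommRingCat.of A)).presheaf.stalk p) p.asIdeal :=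
    StructureSheaf.IsLocalization.to_stalk A p
  exact (IsLocalization.algEquiv p.asIdeal.primeCompl ((Spec (CommRingCat.of A)).presheaf.stalk p)
    (Localization.AtPrime p.asIdeal)).commutes _

/-- A chart around a point: the local ring is a localisation of a `k`-algebra. -/
theorem exists_chart (k : Type u) [Field k] (X : Scheme.{u}) [X.Over (Spec (CommRingCat.of k))]
    (x : X) : ∃ (A : Type u) (_ : CommRing A) (_ : Algebra k A) (j : Spec (CommRingCat.of A) ⟶ X)
      (p : PrimeSpectrum A) (e : X.presheaf.stalk x ≃+* Localization.AtPrime p.asIdeal),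
      IsOpenImmersion j ∧ j p = x ∧
      j ≫ (X ↘ Spec (CommRingCat.of k)) = Spec.map (CommRingCat.ofHom (algebraMap k A)) ∧
      ∀ r, e (Curv2.stalkMap k X x r) = algebraMap k _ r := by
  obtain ⟨A, _, _, j, p, hjo, rfl, hj⟩ :=
    PointScheme.exists_chart (X ↘ Spec (CommRingCat.of k)) x
  exact ⟨A, _, _, j, p, PointScheme.chartStalkEquiv j p, hjo, rfl, hj,
    chartStalkEquiv_stalkMap j hj p⟩

/-- A stalkwise property of the points of `X_K` over `j p`, read on the chart. -/
theorem point_iff (j : Spec (CommRingCat.of A) ⟶ X) [IsOpenImmersion j]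
    (hj : j ≫ (X ↘ Spec (CommRingCat.of k)) = Spec.map (CommRingCat.ofHom (algebraMap k A)))
    (p : PrimeSpectrum A) (K : Type u) [Field K] [Algebra k K]
    (Q : ∀ (R : Type u) [CommRing R], Prop)
    (hQ : ∀ (R S : Type u) [CommRing R] [CommRing S], (R ≃+* S) → Q R → Q S) :
    (∀ x' : ↥(Curv2.bc k X K), Curv2.bcFst k X K x' = j p →
        Q ((Curv2.bc k X K).presheaf.stalk x')) ↔
      ∀ (P : Ideal (A ⊗[k] K)) [P.IsPrime],
        P.comap (algebraMap A (A ⊗[k] K)) = p.asIdeal → Q (Localization.AtPrime P) := by
  constructor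
  · intro h P hP hPp
    exact hQ _ _ (PointScheme.chartStalkEquiv (PointScheme.bcChart _ j K hj) ⟨P, hP⟩)
      (h _ (PointScheme.bcChart_fst_apply _ j K hj p ⟨P, hP⟩ hPp))
  · intro h x' hx'
    obtain ⟨P, hP, -, ⟨e⟩⟩ := PointScheme.exists_prime_of_point _ j K hj p x' hx'
    exact hQ _ _ e.symm (h P.asIdeal hP)

/-- The chart of a scheme locally of finite type is of finite type. -/
theorem finiteType_of_chart [LocallyOfFiniteType (X ↘ Spec (CommRingCat.of k))]
    (j : Spec (CommRingCat.of A) ⟶ X) [IsOpenImmersion j]
    (hj : j ≫ (X ↘ Spec (CommRingCat.of k)) = Spec.map (CommRingCat.ofHom (algebraMap k A))) :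
    Algebra.FiniteType k A := by
  have h : LocallyOfFiniteType (j ≫ (X ↘ Spec (CommRingCat.of k))) := inferInstance
  rw [hj, HasRingHomProperty.Spec_iff (P := @LocallyOfFiniteType)] at h
  exact RingHom.finiteType_algebraMap.mp h

/-- The chart of a locally Noetherian scheme is Noetherian. -/
theorem isNoetherianRing_of_chart [IsLocallyNoetherian X] (j : Spec (CommRingCat.of A) ⟶ X)
    [IsOpenImmersion j] : IsNoetherianRing A := by
  have := isLocallyNoetherian_of_isOpenImmersion j
  exact isLocallyNoetherian_Spec.mp this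

end Groth.Agent.GeomLoc
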