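import Groth.Agent.GeomLoc.Regular
import Groth.Agent.GeomLoc.Reduced
import Groth.Agent.EtStruct.BaseChangeDescentScheme
import Groth.Agent.S9442
import Mathlib.AlgebraicGeometry.Morphisms.Smooth

/-!
# Smooth locus and geometric regularity

* `finitePresentation_of_chart`, `mem_smoothLocus_iff_chart`: the smooth locus on charts;
* `isSmoothAt_of_pi`: geometrically regular points are smooth;
* `isGeomRegularAt_iff_mem_smoothLocus`.
-/

set_option autoImplicit false
set_option linter.style.haveILetI false

universe u

open CategoryTheory Limits AlgebraicGeometry TensorProduct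
open Groth.Agent.FBase

namespace Groth.Agent.GeomLoc

variable {k : Type u} [Field k]

/-- Localising a field changes nothing. -/
theorem formallySmooth_localRingHom_iff {A : Type u} [CommRing A] [Algebra k A] (p : Ideal A)
    [p.IsPrime] :
    (Localization.localRingHom (p.comap (algebraMap k A)) p (algebraMap k A) rfl).FormallySmooth ↔
      Algebra.IsSmoothAt k p := by
  let e : k ≃ₐ[k] Localization.AtPrime (p.comap (algebraMap k A)) :=
    IsLocalization.atUnits k (S := Localization.AtPrime (p.comap (algebraMap k A)))
      (p.comap (algebraMap k A)).primeCompl fun a ha => by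
        refine isUnit_iff_ne_zero.mpr fun h => ha ?_
        rw [h]
        exact zero_mem _
  have hcomp : (Localization.localRingHom (p.comap (algebraMap k A)) p (algebraMap k A) rfl).comp
      e.toRingEquiv.toRingHom = algebraMap k (Localization.AtPrime p) := by
    ext r
    show Localization.localRingHom _ _ _ rfl (e r) = _
    rw [show e r = algebraMap k _ r from e.commutes r, Localization.localRingHom_to_map,
      ← IsScalarTower.algebraMap_apply]
  show _ ↔ Algebra.FormallySmooth k (Localization.AtPrime p)
  rw [← RingHom.formallySmooth_algebraMap, ← hcomp]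
  refine ⟨fun h => RingHom.FormallySmooth.respectsIso.2 _ e.toRingEquiv h, fun h => ?_⟩
  have h' := RingHom.FormallySmooth.respectsIso.2 _ e.toRingEquiv.symm h
  have hid : ((Localization.localRingHom (p.comap (algebraMap k A)) p (algebraMap k A) rfl).comp
      e.toRingEquiv.toRingHom).comp e.toRingEquiv.symm.toRingHom =
      Localization.localRingHom (p.comap (algebraMap k A)) p (algebraMap k A) rfl :=
    RingHom.ext fun x => by simp
  rwa [hid] at h'

variable {X : Scheme.{u}} [X.Over (Spec (CommRingCat.of k))] {A : Type u} [CommRing A] [Algebra k A]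

/-- The smooth locus on a chart. -/
theorem mem_smoothLocus_iff_chart [LocallyOfFinitePresentation (X ↘ Spec (CommRingCat.of k))]
    (j : Spec (CommRingCat.of A) ⟶ X) [IsOpenImmersion j]
    (hj : j ≫ (X ↘ Spec (CommRingCat.of k)) = Spec.map (CommRingCat.ofHom (algebraMap k A)))
    (p : PrimeSpectrum A) :
    j p ∈ (X ↘ Spec (CommRingCat.of k)).smoothLocus ↔ Algebra.IsSmoothAt k p.asIdeal := by
  refine Iff.trans (Scheme.Hom.mem_preimage j (U := (X ↘ Spec (CommRingCat.of k)).smoothLocus)).symm ?_
  rw [Scheme.Hom.preimage_smoothLocus_eq]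
  refine Iff.trans Scheme.Hom.mem_smoothLocus ?_
  have h2 : ∀ (f g : Spec (CommRingCat.of A) ⟶ Spec (CommRingCat.of k)), f = g →
      ((f.stalkMap p).hom.FormallySmooth ↔ (g.stalkMap p).hom.FormallySmooth) := by
    rintro f g rfl
    rfl
  rw [h2 _ _ hj]
  exact (RingHom.FormallySmooth.respectsIso.arrow_mk_iso_iff
    (Scheme.arrowStalkMapSpecIso (CommRingCat.ofHom (algebraMap k A)) p)).trans
    (formallySmooth_localRingHom_iff p.asIdeal)

/-- The chart of a scheme locally of finite presentation is of finite presentation. -/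
theorem finitePresentation_of_chart [LocallyOfFinitePresentation (X ↘ Spec (CommRingCat.of k))]
    (j : Spec (CommRingCat.of A) ⟶ X) [IsOpenImmersion j]
    (hj : j ≫ (X ↘ Spec (CommRingCat.of k)) = Spec.map (CommRingCat.ofHom (algebraMap k A))) :
    Algebra.FinitePresentation k A := by
  have := finiteType_of_chart j hj
  exact Algebra.FinitePresentation.of_finiteType.mp this

omit [X.Over (Spec (CommRingCat.of k))] in
/-- A regular point over a perfect extension gives a smooth point. -/
theorem isSmoothAt_of_regular_over [Algebra.FinitePresentation k A] (p : Ideal A) [p.IsPrime]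
    (L : Type u) [Field L] [Algebra k L] [PerfectField L] (P : Ideal (A ⊗[k] L)) [P.IsPrime]
    (hPp : P.comap (algebraMap A (A ⊗[k] L)) = p)
    (hreg : IsRegularLocalRing (Localization.AtPrime P)) : Algebra.IsSmoothAt k p := by
  letI := Algebra.TensorProduct.rightAlgebra (R := k) (A := L) (B := A)
  let c := (Algebra.TensorProduct.comm k L A).toRingEquiv
  let Q : Ideal (L ⊗[k] A) := P.comap c.toRingHom
  haveI : Q.IsPrime := Ideal.IsPrime.comap _
  have hQreg : IsRegularLocalRing (Localization.AtPrime (R := L ⊗[k] A) Q) := by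
    refine isRegularLocalRing_congr _ _ (IsLocalization.ringEquivOfRingEquiv (M := Q.primeCompl)
      (T := P.primeCompl) _ _ c ?_).symm hreg
    ext x
    simp only [Submonoid.mem_map]
    refine ⟨?_, fun hx => ⟨c.symm x, ?_, c.apply_symm_apply x⟩⟩
    · rintro ⟨y, hy, rfl⟩
      exact hy
    · show ¬ c (c.symm x) ∈ P
      rw [c.apply_symm_apply]
      exact hx
  haveI : Algebra.IsGeometricallyReduced L Q.ResidueField :=
    TensorAlgClosed.isGeometricallyReduced_of_perfectField
  haveI : Algebra.IsSmoothAt L Q := (S9442.result L (L ⊗[k] A) Q).mpr hQreg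
  refine EtStruct.isSmoothAt_congr ?_ (EtStruct.isSmoothAt_of_flat_baseChange Q)
  rw [← hPp]
  ext a
  simp [Q, c, Ideal.mem_comap, RingHom.algebraMap_toAlgebra]

omit [X.Over (Spec (CommRingCat.of k))] in
/-- Regular over all finite purely inseparable extensions implies smooth. -/
theorem isSmoothAt_of_pi [Algebra.FinitePresentation k A] (p : Ideal A) [p.IsPrime]
    (h : ∀ (L : Type u) [Field L] [Algebra k L], Module.Finite k L → IsPurelyInseparable k L →
      IsRegularRing (L ⊗[k] Localization.AtPrime p)) :
    Algebra.IsSmoothAt k p := by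
  let L := perfectClosure k (AlgebraicClosure k)
  haveI : IsNoetherianRing A := Algebra.FiniteType.isNoetherianRing k A
  let Ap := Localization.AtPrime p
  haveI : IsNoetherianRing Ap := IsLocalization.isNoetherianRing p.primeCompl _ inferInstance
  haveI : IsNoetherianRing (L ⊗[k] A) := Algebra.FiniteType.isNoetherianRing L (L ⊗[k] A)
  haveI : IsNoetherianRing (A ⊗[k] L) :=
    isNoetherianRing_of_ringEquiv _ (Algebra.TensorProduct.comm k L A).toRingEquiv
  let := (Point.mapK (k := k) (A := A) Ap L).toRingHom.toAlgebra
  have : IsScalarTower A (A ⊗[k] L) (Ap ⊗[k] L) :=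
    IsScalarTower.of_algebraMap_eq (R := A) (S := A ⊗[k] L) (A := Ap ⊗[k] L) fun a ↦ by
    show _ = Point.mapK Ap L (algebraMap A (A ⊗[k] L) a)
    rw [Point.mapK_algebraMap]
    rfl
  have := IsLocalization.tensorProduct_tensorProduct k L p.primeCompl Ap
    (by ext x; simp [RingHom.algebraMap_toAlgebra, Point.mapK])
  haveI : IsNoetherianRing (Ap ⊗[k] L) := IsLocalization.isNoetherianRing (R := A ⊗[k] L)
    (Algebra.algebraMapSubmonoid (A ⊗[k] L) p.primeCompl) (Ap ⊗[k] L) inferInstance
  haveI : IsNoetherianRing (L ⊗[k] Ap) :=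
    isNoetherianRing_of_ringEquiv _ (Algebra.TensorProduct.comm k Ap L).toRingEquiv
  haveI := GeomFieldLib.isRegularRing_tensor_of_pi k Ap h L
  haveI : IsRegularRing (Ap ⊗[k] L) :=
    IsRegularRing.of_ringEquiv (Algebra.TensorProduct.comm k L Ap).toRingEquiv
  obtain ⟨P, hP⟩ := PrimeSpectrum.comap_surjective_of_faithfullyFlat (A := A) (B := A ⊗[k] L)
    ⟨p, ‹_›⟩
  have hPp : P.asIdeal.comap (algebraMap A (A ⊗[k] L)) = p := congrArg PrimeSpectrum.asIdeal hP
  have hreg : IsRegularLocalRing (Localization.AtPrime P.asIdeal) :=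
    forall_over_of_all p L (fun R _ => IsRegularLocalRing R) isRegularLocalRing_congr
      (fun Q _ => IsRegularRing.isRegularLocalRing_localization Q) P.asIdeal hPp
  exact isSmoothAt_of_regular_over p L P.asIdeal hPp hreg

/-- Geometrically regular points are exactly the smooth points. -/
theorem isGeomRegularAt_iff_mem_smoothLocus
    [LocallyOfFinitePresentation (X ↘ Spec (CommRingCat.of k))] (x : X) :
    Curv2.IsGeomRegularAt k X x ↔ x ∈ (X ↘ Spec (CommRingCat.of k)).smoothLocus := by
  haveI := LocallyOfFiniteType.isLocallyNoetherian (X ↘ Spec (CommRingCat.of k))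
  obtain ⟨B, _, _, j, p, e, hjo, rfl, hj, he⟩ := exists_chart k X x
  haveI := finitePresentation_of_chart j hj
  haveI : IsNoetherianRing B := Algebra.FiniteType.isNoetherianRing k B
  haveI : IsNoetherianRing (Localization.AtPrime p.asIdeal) :=
    IsLocalization.isNoetherianRing p.asIdeal.primeCompl _ inferInstance
  rw [mem_smoothLocus_iff_chart j hj p, (isGeomRegularAt_iff (j p)).1]
  constructor
  · intro h
    refine isSmoothAt_of_pi p.asIdeal fun L _ _ hf hp => ?_
    haveI := hf
    haveI := hp
    exact (regular_over_iff p.asIdeal L).1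
      ((point_iff j hj p L (fun R _ => IsRegularLocalRing R) isRegularLocalRing_congr).1 (h L))
  · intro h L _ _ _ _
    exact (point_iff j hj p L (fun R _ => IsRegularLocalRing R) isRegularLocalRing_congr).2
      ((regular_over_iff p.asIdeal L).2 (isRegularRing_tensor_atPrime_of_smoothAt p.asIdeal L))

end Groth.Agent.GeomLoc
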